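import Cfsg.Agent.OddOrder.PF13.TypeIINormalizer

/-!
# S1548 and S1549 from the maximal-subgroup classification, S1540, S1543 and S1547
-/

set_option autoImplicit false

universe u

namespace Cfsg.Agent.OddOrder.PF13

open Subgroup

variable {G : Type u} [Group G] [Finite G] {S T W₁ W₂ U V : Subgroup G}

/-- The two data of a pair give non-conjugate maximal subgroups. -/
theorem not_conj_pair (hS : Cfsg.IsTypePWith S W₁ U W₂) (hT : Cfsg.IsTypePWith T W₂ V W₁) (c : G) :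
    T ≠ S.map (MulAut.conj c).toMonoidHom := by
  intro e
  have hc := TypeP.card_eq hT
  rw [e, ← map_commutator, Coprime.card_map_conj, Coprime.card_map_conj, TypeP.card_eq hS] at hc
  have hcard : Nat.card W₁ = Nat.card W₂ := Nat.eq_of_mul_eq_mul_left Nat.card_pos hc
  obtain ⟨hW₁, -, hdis, -, hcyc, -⟩ := hS.selfNormalizing
  have he : W₁ = W₂ := H41.eq_of_card_eq_of_le_cyclic hcyc le_sup_left le_sup_right hcard
  rw [← he, inf_idem] at hdis
  exact hW₁ hdis

/-- Every maximal subgroup is of Type I or conjugate to one of a given type-P pair. -/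
theorem class_of_pair (hcls : (∀ M : Subgroup G, IsCoatom M → IsTypeI M) ∨
      ∃ S' T' : Subgroup G, ∀ M : Subgroup G, IsCoatom M → IsTypeI M ∨
        ∃ g : G, M = S'.map (MulAut.conj g).toMonoidHom ∨ M = T'.map (MulAut.conj g).toMonoidHom)
    (hS : IsCoatom S) (hT : IsCoatom T) (hSP : Cfsg.IsTypePWith S W₁ U W₂)
    (hTP : Cfsg.IsTypePWith T W₂ V W₁) {M : Subgroup G} (hM : IsCoatom M) :
    IsTypeI M ∨ ∃ g : G,
      M = S.map (MulAut.conj g).toMonoidHom ∨ M = T.map (MulAut.conj g).toMonoidHom := by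
  have hSI : ¬ IsTypeI S := fun h => BG16.typeI_not_typeP h ⟨W₁, U, W₂, hSP⟩
  have hTI : ¬ IsTypeI T := fun h => BG16.typeI_not_typeP h ⟨W₂, V, W₁, hTP⟩
  rcases hcls with h | ⟨S', T', h⟩
  · exact Or.inl (h M hM)
  obtain ⟨a, ha⟩ := (h S hS).resolve_left hSI
  obtain ⟨b, hb⟩ := (h T hT).resolve_left hTI
  refine (h M hM).imp id fun ⟨g, hg⟩ => ?_
  have back : ∀ {X Y : Subgroup G} {x : G}, X = Y.map (MulAut.conj x).toMonoidHom →
      ∀ z : G, Y.map (MulAut.conj z).toMonoidHom = X.map (MulAut.conj (z * x⁻¹)).toMonoidHom := by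
    intro X Y x e z
    rw [e, Coprime.map_conj_map_conj, inv_mul_cancel_right]
  rcases ha with ha | ha <;> rcases hb with hb | hb
  · exact absurd (hb.trans (back ha b)) (not_conj_pair hSP hTP _)
  · rcases hg with hg | hg
    · exact ⟨_, Or.inl (hg.trans (back ha g))⟩
    · exact ⟨_, Or.inr (hg.trans (back hb g))⟩
  · rcases hg with hg | hg
    · exact ⟨_, Or.inr (hg.trans (back hb g))⟩
    · exact ⟨_, Or.inl (hg.trans (back ha g))⟩
  · exact absurd (hb.trans (back ha b)) (not_conj_pair hSP hTP _)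

/-- In Type II, for every choice of data, `U ≠ 1`, `|W₁|` is prime and `N(U) ⊄ S`. -/
theorem typeII_facts (hP : Cfsg.IsTypePWith S W₁ U W₂) (hII : Cfsg.IsOfTypeII S) :
    U ≠ ⊥ ∧ (Nat.card W₁).Prime ∧ ¬ normalizer (U : Set G) ≤ S := by
  have hU : U ≠ ⊥ := BG16.typeII_U_ne_bot hII hP
  obtain ⟨W₁', U', W₂', hP', -, hpr, -, -, hN, -, -⟩ := hII
  obtain ⟨m, hm, hW, hU', -⟩ := TypeP.conj_data hP hP'
  refine ⟨hU, ?_, fun h => hN ?_⟩
  · rwa [hW, Coprime.card_map_conj] at hpr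
  · rw [hU']
    refine (map_equiv_normalizer_eq U (MulAut.conj m)).ge.trans ?_
    exact (map_mono h).trans (Coprime.map_conj_eq (le_normalizer (TypeP.derived_le S hm))).le

/-- The prime order of `W₁` for data of a subgroup of Type II or III. -/
theorem card_W₁_prime (hP : Cfsg.IsTypePWith S W₁ U W₂)
    (h : Cfsg.IsOfTypeII S ∨ Cfsg.IsOfTypeIII S) : (Nat.card W₁).Prime := by
  rcases h with h | h
  · exact (typeII_facts hP h).2.1
  · obtain ⟨W₁', U', W₂', hP', -, hpr, -⟩ := h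
    obtain ⟨m, -, hW, -⟩ := TypeP.conj_data hP hP'
    rwa [hW, Coprime.card_map_conj] at hpr

/-- S1548 from the S1543 and S1547 facts for `T`. -/
theorem normalizer_W1 (hG : Cfsg.IsMinSimpleOddOrder G) (hTP : Cfsg.IsTypePWith T W₂ V W₁)
    (hel : Cfsg.IsElementaryAbelian (Nat.card W₁) (Cfsg.fittingHallOf T))
    (hTI : Cfsg.IsTISubset (Cfsg.typeA0 T)) (hA : normalizer (Cfsg.typeA0 T) = T)
    (hC : V ⊓ centralizer (Cfsg.fittingHallOf T : Set G) = ⊥) :
    normalizer (W₁ : Set G) = centralizer (W₁ : Set G) ∧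
      centralizer (W₁ : Set G) = Cfsg.fittingHallOf T ⊔ W₂ :=
  normalizer_W₂_of_TI hTP hG.1 hel hC hTI hA

/-- S1549 from the classification, S1540, and the S1543 and S1548 facts for `T`. -/
theorem typeII_normalizer_of_U (hG : Cfsg.IsMinSimpleOddOrder G)
    (hcls : (∀ M : Subgroup G, IsCoatom M → IsTypeI M) ∨
      ∃ S' T' : Subgroup G, ∀ M : Subgroup G, IsCoatom M → IsTypeI M ∨
        ∃ g : G, M = S'.map (MulAut.conj g).toMonoidHom ∨ M = T'.map (MulAut.conj g).toMonoidHom)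
    (hfrob : ∀ M : Subgroup G, IsCoatom M → IsTypeI M → ∀ x ∈ Cfsg.fittingHallOf M, x ≠ 1 →
      M ⊓ centralizer ({x} : Set G) ≤ Cfsg.fittingHallOf M)
    (hS : IsCoatom S) (hT : IsCoatom T) (hSP : Cfsg.IsTypePWith S W₁ U W₂)
    (hTP : Cfsg.IsTypePWith T W₂ V W₁) (hII : Cfsg.IsOfTypeII S)
    (hT23 : Cfsg.IsOfTypeII T ∨ Cfsg.IsOfTypeIII T)
    (hel : Cfsg.IsElementaryAbelian (Nat.card W₁) (Cfsg.fittingHallOf T))
    (hN : normalizer (W₁ : Set G) = Cfsg.fittingHallOf T ⊔ W₂)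
    (L : Subgroup G) (hL : IsCoatom L) (hNU : normalizer (U : Set G) ≤ L) :
    (∀ x ∈ Cfsg.fittingHallOf L, x ≠ 1 →
        L ⊓ centralizer ({x} : Set G) ≤ Cfsg.fittingHallOf L) ∧
      U ≤ Cfsg.fittingHallOf L ∧
      ((Cfsg.fittingHallOf L ⊓ W₁ = ⊥ ∧ Cfsg.fittingHallOf L ⊔ W₁ = L) ∨
        ∃ y ∈ Cfsg.fittingHallOf T,
          Cfsg.fittingHallOf L ⊓ (W₁ ⊔ W₂.map (MulAut.conj y).toMonoidHom) = ⊥ ∧
          Cfsg.fittingHallOf L ⊔ (W₁ ⊔ W₂.map (MulAut.conj y).toMonoidHom) = L) := by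
  obtain ⟨hU, hq, hnN⟩ := typeII_facts hSP hII
  have hI : IsTypeI L := by
    refine (class_of_pair hcls hS hT hSP hTP hL).resolve_right ?_
    rintro ⟨g, rfl | rfl⟩
    · exact not_le_conj_self hSP hnN g hNU
    · exact not_le_conj_other hSP hTP hU hq g hNU
  refine ⟨hfrob L hL hI, ?_⟩
  refine frobenius_over_normalizer hG.1 hSP hq hU (card_W₁_prime hTP hT23) hI.1.1 hNU ?_
    (hfrob L hL hI) hel hTP hN
  intro h
  exact hI.1.2.2.1 ((map_eq_bot_iff_of_injective _ L.subtype_injective).mp h)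

end Cfsg.Agent.OddOrder.PF13
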