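import Cfsg.Agent.OddOrder.PF9.TypeP
import Cfsg.Agent.OddOrder.BG11.FpfNilpotent
import Cfsg.Agent.Coprime.Abelian

/-!
# The normalizer of `W₂` for type-P data with abelian core (the group theory behind S1548)
-/

set_option autoImplicit false

universe u

namespace Cfsg.Agent.OddOrder.PF13

open Subgroup
open scoped IsMulCommutative

variable {G : Type u} [Group G] [Finite G] {M W₁ U W₂ : Subgroup G}

/-- With an abelian core and `C_U(H) = 1`, no nontrivial element of `U` centralizes `W₂`. -/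
theorem U_inf_centralizer_W₂ (hP : Cfsg.IsTypePWith M W₁ U W₂) (hodd : Odd (Nat.card G))
    (hab : IsMulCommutative (Cfsg.fittingHallOf M))
    (hC : U ⊓ centralizer (Cfsg.fittingHallOf M : Set G) = ⊥) :
    U ⊓ centralizer (W₂ : Set G) = ⊥ := by
  set H := Cfsg.fittingHallOf M with hH
  set K := U ⊓ centralizer (W₂ : Set G) with hK
  haveI := hab
  obtain ⟨x, hx, hr⟩ := Coprime.exists_prime_orderOf_mem hP.W₁_ne
  set r := orderOf x with hrdef
  haveI := Fact.mk hr
  have hx1 : x ≠ 1 := fun e => hr.ne_one (by rw [hrdef, e, orderOf_one])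
  have hxW : zpowers x ≤ W₁ := zpowers_le.mpr hx
  have hKU : K ≤ U := inf_le_left
  have hUH : U ≤ normalizer (H : Set G) := (TypeP.U_le hP).trans (TypeP.le_normalizer_core M)
  have hKH : K ≤ normalizer (H : Set G) := hKU.trans hUH
  have hxH : zpowers x ≤ normalizer (H : Set G) :=
    (hxW.trans (TypeP.W₁_le hP)).trans (TypeP.le_normalizer_core M)
  have hWc : W₁ ≤ centralizer (W₂ : Set G) := fun y hy =>
    mem_centralizer_iff.mpr fun w hw => (TypeP.W₂_commute hP hy hw).symm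
  have hW₁K : W₁ ≤ normalizer (K : Set G) :=
    (le_inf hP.U_normal (hWc.trans le_normalizer)).trans inf_normalizer_le_normalizer_inf
  have hcopK : (Nat.card K).Coprime (Nat.card H) :=
    (TypeP.coprime_core_U hP).symm.coprime_dvd_left (card_dvd_of_le hKU)
  obtain ⟨hd, hsup⟩ := Coprime.abelian_decomposition (V := H) hKH hcopK
  set V := ⁅H, K⁆ with hV
  have hVH : V ≤ H := Coprime.commutator_le_left_of_normalizer hKH
  have hW₂K : W₂ ≤ H ⊓ centralizer (K : Set G) :=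
    le_inf (TypeP.W₂_le_core hP) (le_centralizer_iff.mp inf_le_right)
  have hfix : V ⊓ centralizer (zpowers x : Set G) = ⊥ := by
    refine le_bot_iff.mp (hd.le.trans' (le_inf (le_trans ?_ hW₂K) inf_le_left))
    rw [← TypeP.derived_inf_centralizer hP hx hx1]
    refine le_inf (inf_le_left.trans (hVH.trans (TypeP.core_le_derived hP))) (inf_le_right.trans ?_)
    exact Subgroup.centralizer_le (Set.singleton_subset_iff.mpr (mem_zpowers x))
  have hxV : zpowers x ≤ normalizer (V : Set G) := by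
    intro y hy
    refine Coprime.mem_normalizer_of_map_conj ?_
    rw [hV, Subgroup.map_commutator, Coprime.map_conj_eq (hxH hy),
      Coprime.map_conj_eq (hW₁K (hxW hy))]
  have hVn : Group.IsNilpotent V := by
    haveI : IsMulCommutative V := ⟨⟨fun a b => Subtype.ext (congrArg Subtype.val
      (hab.is_comm.comm (⟨a, hVH a.2⟩ : H) ⟨b, hVH b.2⟩) : (a : G) * b = b * a)⟩⟩
    infer_instance
  have hxr : Nat.card (zpowers x) = r := Nat.card_zpowers x
  have hrW : r ∣ Nat.card W₁ := hxr ▸ card_dvd_of_le hxW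
  have hrH : ¬ r ∣ Nat.card H := fun h => hr.not_dvd_one
    ((TypeP.coprime_core_W₁ hP) ▸ Nat.dvd_gcd h hrW)
  have hrU : ¬ r ∣ Nat.card U := fun h => hr.not_dvd_one
    ((TypeP.coprime_U_W₁ hP) ▸ Nat.dvd_gcd h hrW)
  have h1 := BG11.commutator_le_centralizer_of_fpf' hVn hxr hxV
    (fun h => hrH (h.trans (card_dvd_of_le hVH))) hfix
    (normalizer_commutator_ge_right H K) (hxW.trans hW₁K)
    (hcopK.coprime_dvd_right (card_dvd_of_le hVH))
    (fun h => hrU (h.trans (card_dvd_of_le hKU))) (hodd.of_dvd_nat (card_subgroup_dvd_card K))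
  -- `[x, K] = K`
  have hKx : K ≤ centralizer (V : Set G) := by
    have h2 := Coprime.commutator_sup_centralizer (A := zpowers x) (K := K) (hxW.trans hW₁K)
      ((Nat.card_zpowers x).symm ▸ hr.coprime_iff_not_dvd.mpr fun h => hrU (h.trans (card_dvd_of_le hKU)))
      (Or.inl (Coprime.isSolvable_zpowers x))
    have h3 : K ⊓ centralizer (zpowers x : Set G) = ⊥ := eq_bot_iff.mpr fun u hu => mem_bot.mpr
      (TypeP.fpf_U hP hx hx1 (hKU hu.1) (mem_centralizer_iff.mp hu.2 x (mem_zpowers x)))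
    rw [h3, sup_bot_eq, commutator_comm] at h2
    exact h2.ge.trans h1
  refine le_bot_iff.mp (hC.le.trans' (le_inf hKU ?_))
  rw [le_centralizer_iff, ← hsup]
  exact sup_le inf_le_right (le_centralizer_iff.mp hKx)

/-- `N(W₂) = C(W₂) = H W₁` once `N(W₂) ≤ M`. -/
theorem normalizer_W₂ (hP : Cfsg.IsTypePWith M W₁ U W₂) (hodd : Odd (Nat.card G))
    (hab : IsMulCommutative (Cfsg.fittingHallOf M))
    (hC : U ⊓ centralizer (Cfsg.fittingHallOf M : Set G) = ⊥)
    (hN : normalizer (W₂ : Set G) ≤ M) :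
    normalizer (W₂ : Set G) = centralizer (W₂ : Set G) ∧
      centralizer (W₂ : Set G) = Cfsg.fittingHallOf M ⊔ W₁ := by
  set H := Cfsg.fittingHallOf M with hH
  have hHc : H ⊔ W₁ ≤ centralizer (W₂ : Set G) := by
    refine sup_le (fun h hh => mem_centralizer_iff.mpr fun w hw => congrArg Subtype.val
      (hab.is_comm.comm (⟨w, TypeP.W₂_le_core hP hw⟩ : H) ⟨h, hh⟩)) fun y hy => ?_
    exact mem_centralizer_iff.mpr fun w hw => (TypeP.W₂_commute hP hy hw).symm
  have hle : normalizer (W₂ : Set G) ≤ H ⊔ W₁ := by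
    intro g hg
    have hgM := (TypeP.core_sup_compl hP).ge (hN hg)
    obtain ⟨h, hh, c, hc, rfl⟩ :=
      (Coprime.mem_sup_iff ((TypeP.compl_le hP).trans (TypeP.le_normalizer_core M))).mp hgM
    obtain ⟨v, hv, y, hy, rfl⟩ := (Coprime.mem_sup_iff hP.U_normal).mp hc
    have hhn : h ∈ normalizer (W₂ : Set G) := centralizer_le_normalizer _ (hHc (mem_sup_left hh))
    have hyn : y ∈ normalizer (W₂ : Set G) := centralizer_le_normalizer _ (hHc (mem_sup_right hy))
    have hvn : v ∈ normalizer (W₂ : Set G) := by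
      have := mul_mem (mul_mem (inv_mem hhn) hg) (inv_mem hyn)
      rwa [show h⁻¹ * (h * (v * y)) * y⁻¹ = v by group] at this
    -- `[x, v] ∈ C_U(W₂) = 1` for `x ∈ W₁`
    obtain ⟨x, hx, hx1⟩ : ∃ x ∈ W₁, x ≠ (1 : G) := by
      obtain ⟨⟨x, hx⟩, hne⟩ := (Subgroup.ne_bot_iff_exists_ne_one).1 hP.W₁_ne
      exact ⟨x, hx, fun e => hne (Subtype.ext e)⟩
    have hxv : x * v * x⁻¹ * v⁻¹ ∈ U ⊓ centralizer (W₂ : Set G) := by
      refine ⟨U.mul_mem (Coprime.conj_mem (hP.U_normal hx) hv) (U.inv_mem hv),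
        mem_centralizer_iff.mpr fun w hw => ?_⟩
      have hxw : ∀ z ∈ W₂, x * z = z * x := fun z hz => TypeP.W₂_commute hP hx hz
      have hz : v⁻¹ * w * v ∈ W₂ := Coprime.conj_mem' hvn hw
      have e1 := hxw _ hz
      calc w * (x * v * x⁻¹ * v⁻¹) = x * v * (v⁻¹ * w * v) * x⁻¹ * v⁻¹ := by
            rw [show x * v * (v⁻¹ * w * v) = x * w * v by group, hxw w hw]; group
        _ = x * v * (x⁻¹ * (x * (v⁻¹ * w * v))) * x⁻¹ * v⁻¹ := by group
        _ = x * v * x⁻¹ * ((v⁻¹ * w * v) * x) * x⁻¹ * v⁻¹ := by rw [e1]; group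
        _ = x * v * x⁻¹ * v⁻¹ * w := by group
    rw [U_inf_centralizer_W₂ hP hodd hab hC, mem_bot, mul_inv_eq_one, mul_inv_eq_iff_eq_mul] at hxv
    rw [TypeP.fpf_U hP hx hx1 hv hxv, one_mul]
    exact mul_mem_sup hh hy
  exact ⟨le_antisymm (hle.trans hHc) (centralizer_le_normalizer _),
    le_antisymm ((centralizer_le_normalizer _).trans hle) hHc⟩

/-- `N(W₂) ≤ M` when `W₂ ∖ 1` lies in a TI-subset with normalizer `M`. -/
theorem normalizer_W₂_le (hP : Cfsg.IsTypePWith M W₁ U W₂) {A : Set G} (hTI : Cfsg.IsTISubset A)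
    (hA : normalizer A = M) (hsub : ∀ w ∈ W₂, w ≠ 1 → w ∈ A) :
    normalizer (W₂ : Set G) ≤ M := by
  intro g hg
  by_contra hgM
  obtain ⟨⟨w, hw⟩, hne⟩ := (Subgroup.ne_bot_iff_exists_ne_one).1 hP.selfNormalizing.2.1
  have hw1 : w ≠ 1 := fun e => hne (Subtype.ext e)
  refine hw1 (hTI g (hA ▸ hgM) w (hsub w hw hw1) (hsub _ (Coprime.conj_mem hg hw) ?_))
  exact fun e => hw1 (conj_eq_one_iff.mp e)

/-- `W₂ ∖ 1 ⊆ A₀(M)`. -/
theorem W₂_subset_typeA0 (hP : Cfsg.IsTypePWith M W₁ U W₂) :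
    ∀ w ∈ W₂, w ≠ 1 → w ∈ Cfsg.typeA0 M := by
  intro w hw hw1
  refine Or.inl ?_
  unfold Cfsg.typeA
  split_ifs
  · exact ⟨TypeP.W₂_le hP hw, hw1, w, TypeP.W₂_le_core hP hw, hw1, rfl⟩
  · refine ⟨TypeP.core_le_derived hP (TypeP.W₂_le_core hP hw), hw1, w, ?_, hw1, rfl⟩
    unfold Cfsg.typeCore
    split_ifs
    · exact TypeP.core_le_derived hP (TypeP.W₂_le_core hP hw)
    · exact TypeP.W₂_le_core hP hw

/-- S1548 in the role-swapped form, from the S1543 and S1547 facts of `M`. -/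
theorem normalizer_W₂_of_TI (hP : Cfsg.IsTypePWith M W₁ U W₂) (hodd : Odd (Nat.card G)) {p : ℕ}
    (hel : Cfsg.IsElementaryAbelian p (Cfsg.fittingHallOf M))
    (hC : U ⊓ centralizer (Cfsg.fittingHallOf M : Set G) = ⊥)
    (hTI : Cfsg.IsTISubset (Cfsg.typeA0 M)) (hA : normalizer (Cfsg.typeA0 M) = M) :
    normalizer (W₂ : Set G) = centralizer (W₂ : Set G) ∧
      centralizer (W₂ : Set G) = Cfsg.fittingHallOf M ⊔ W₁ :=
  normalizer_W₂ hP hodd hel.1 hC (normalizer_W₂_le hP hTI hA (W₂_subset_typeA0 hP))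

end Cfsg.Agent.OddOrder.PF13
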