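import Cfsg.Agent.OddOrder.PF13.NormalizerW
import Cfsg.Agent.OddOrder.Reduction
import Cfsg.Agent.OddOrder.BG16.Exclusive
import Cfsg.Agent.OddOrder.BG16.Basic
import Cfsg.Agent.OddOrder.BG16.CyclicCore
import Cfsg.Agent.OddOrder.BG11.MaxElem
import Cfsg.Agent.H41.FittingMax
import Cfsg.Agent.H41.UMaximal
import Cfsg.Agent.Coprime.Hall

/-!
# The maximal subgroups over `N(U)` for `S` of Type II (the group theory behind S1549)
-/

set_option autoImplicit false

universe u

namespace Cfsg.Agent.OddOrder.PF13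

open Subgroup

variable {G : Type u} [Group G] [Finite G]

/-- An odd group acting without fixed points on a nontrivial nilpotent group of coprime order has
cyclic `p`-subgroups. -/
theorem isCyclic_of_fpf {H E B : Subgroup G} (hodd : Odd (Nat.card G)) (hH1 : H ≠ ⊥)
    (hEH : E ≤ normalizer (H : Set G)) (hcop : (Nat.card E).Coprime (Nat.card H))
    (hfpf : ∀ e ∈ E, e ≠ 1 → H ⊓ centralizer ({e} : Set G) = ⊥) {p : ℕ} [hp : Fact p.Prime]
    (hBE : B ≤ E) (hB : IsPGroup p B) : IsCyclic B := by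
  by_contra hnc
  haveI : Nontrivial B := by
    by_contra h
    rw [not_nontrivial_iff_subsingleton] at h
    exact hnc inferInstance
  obtain ⟨n, hn⟩ := IsPGroup.iff_card.mp hB
  have hn0 : n ≠ 0 := by
    rintro rfl
    exact (Finite.one_lt_card (α := B)).ne' (by rw [hn, pow_zero])
  have hpB : p ∣ Nat.card B := hn ▸ dvd_pow_self p hn0
  obtain ⟨A, hAB, hAc, hAe, hA2⟩ := H41.exists_elementary_sq_of_not_isCyclic
    (H41.pne2_of_card_dvd hodd (hpB.trans (card_subgroup_dvd_card B))) hB hnc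
  refine hH1 (le_bot_iff.mp (BG11.le_of_lines (M := ⊥) ⟨hAc, hAe⟩ hA2 ?_
    ((hAB.trans hBE).trans hEH) fun A₀ hA₀ hc => ?_))
  · exact fun h => hp.out.not_dvd_one (hcop ▸ Nat.dvd_gcd (hpB.trans (card_dvd_of_le hBE)) h)
  · obtain ⟨⟨a, ha⟩, ha1⟩ :=
      (Subgroup.ne_bot_iff_exists_ne_one).1 (BG11.ne_bot_of_card (hc ▸ hp.out.one_lt) : A₀ ≠ ⊥)
    refine le_of_le_of_eq (inf_le_inf_left H (Subgroup.centralizer_le ?_))
      (hfpf a (hBE (hAB (hA₀ ha))) fun e => ha1 (Subtype.ext e))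
    exact Set.singleton_subset_iff.mpr ha

/-- An odd group acting without fixed points normalizes each of its subgroups of prime order. -/
theorem normal_of_prime_fpf {H E W : Subgroup G} (hodd : Odd (Nat.card G))
    (hH : Group.IsNilpotent H) (hH1 : H ≠ ⊥) (hsol : Group.IsSolvable E)
    (hEH : E ≤ normalizer (H : Set G)) (hcop : (Nat.card E).Coprime (Nat.card H))
    (hfpf : ∀ e ∈ E, e ≠ 1 → H ⊓ centralizer ({e} : Set G) = ⊥) {q : ℕ} [hq : Fact q.Prime]
    (hWE : W ≤ E) (hWc : Nat.card W = q) : E ≤ normalizer (W : Set G) := by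
  have hWq : IsPGroup q W := IsPGroup.of_card (n := 1) (by rw [hWc, pow_one])
  haveI : Group.IsSolvable E := hsol
  have hEW : q ∣ Nat.card E := hWc ▸ card_dvd_of_le hWE
  have hW : W ≤ Cfsg.fittingOf E := H41.centralizer_fittingOf_le hWE fun r hr => by
    haveI := Fact.mk hr
    set K := H41.fcomp r E with hK
    have hKE : K ≤ E := H41.fcomp_le r E
    have hWK : W ≤ normalizer (K : Set G) := hWE.trans (H41.le_normalizer_fcomp r E)
    by_cases hrq : r = q
    · subst hrq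
      haveI hc : IsCyclic ↥(K ⊔ W) := isCyclic_of_fpf hodd hH1 hEH hcop hfpf (sup_le hKE hWE)
        ((H41.isPGroup_fcomp r E).to_sup_of_normal_left' hWq hWK)
      exact fun w hw => mem_centralizer_iff.mpr fun k hk =>
        BG16.comm_of_isCyclic hc (mem_sup_left hk) (mem_sup_right hw)
    · have hqK : ¬ q ∣ Nat.card K := fun h =>
        hq.out.not_dvd_one ((H41.coprime_card_of_isPGroup hrq (H41.isPGroup_fcomp r E)) ▸
          Nat.dvd_gcd h dvd_rfl)
      obtain ⟨⟨a, ha⟩, ha1⟩ := (Subgroup.ne_bot_iff_exists_ne_one).1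
        (BG11.ne_bot_of_card (hWc ▸ hq.out.one_lt) : W ≠ ⊥)
      have hfix : H ⊓ centralizer (W : Set G) = ⊥ := le_bot_iff.mp (le_of_le_of_eq
        (inf_le_inf_left H (Subgroup.centralizer_le (Set.singleton_subset_iff.mpr ha)))
        (hfpf a (hWE ha) fun e => ha1 (Subtype.ext e)))
      have h1 := BG11.commutator_le_centralizer_of_fpf' hH hWc (hWE.trans hEH)
        (fun h => hq.out.not_dvd_one (hcop ▸ Nat.dvd_gcd hEW h)) hfix
        (hKE.trans hEH) hWK (hcop.coprime_dvd_left (card_dvd_of_le hKE)) hqK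
        (hodd.of_dvd_nat (card_subgroup_dvd_card K))
      have h2 : ⁅W, K⁆ = ⊥ := by
        refine eq_bot_iff.mpr fun y hy => mem_bot.mpr ?_
        by_contra hy1
        have hyK : y ∈ K := (commutator_comm W K).le.trans
          (Coprime.commutator_le_left_of_normalizer hWK) hy
        refine hH1 (le_bot_iff.mp (le_of_le_of_eq (le_inf le_rfl fun h hh => ?_)
          (hfpf y (hKE hyK) hy1)))
        exact mem_centralizer_singleton_iff.mpr (mem_centralizer_iff.mp (h1 hy) h hh)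
      exact commutator_eq_bot_iff_le_centralizer.mp h2
  have hWF : W ≤ H41.fcomp q E := H41.le_fcomp_of_le_fittingOf hW hWq
  have hFc := isCyclic_of_fpf hodd hH1 hEH hcop hfpf (H41.fcomp_le q E) (H41.isPGroup_fcomp q E)
  intro e he
  refine Coprime.mem_normalizer_of_map_conj (H41.eq_of_card_eq_of_le_cyclic hFc ?_ hWF
    (Coprime.card_map_conj e W))
  exact (map_mono hWF).trans (Coprime.map_conj_eq (H41.le_normalizer_fcomp q E he)).le

variable {S T L W₁ W₂ U V : Subgroup G}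

/-- `W₁` acts on `U` with `[U, W₁] = U`. -/
theorem commutator_U_W₁ (hP : Cfsg.IsTypePWith S W₁ U W₂) : ⁅U, W₁⁆ = U := by
  have h := Coprime.commutator_sup_centralizer (A := W₁) (K := U) hP.U_normal
    (TypeP.coprime_U_W₁ hP).symm (Or.inl (TypeP.W₁_solvable hP))
  obtain ⟨⟨x, hx⟩, hx1⟩ := (Subgroup.ne_bot_iff_exists_ne_one).1 hP.W₁_ne
  have hfix : U ⊓ centralizer (W₁ : Set G) = ⊥ := eq_bot_iff.mpr fun u hu => mem_bot.mpr
    (TypeP.fpf_U hP hx (fun e => hx1 (Subtype.ext e)) hu.1 (mem_centralizer_iff.mp hu.2 x hx))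
  rwa [hfix, sup_bot_eq] at h

/-- An element of `U` in a nilpotent group together with `W₁` is trivial. -/
theorem eq_one_of_nilpotent (hP : Cfsg.IsTypePWith S W₁ U W₂) {N : Subgroup G}
    (hN : Group.IsNilpotent N) (hW : W₁ ≤ N) {u : G} (hu : u ∈ U) (huN : u ∈ N) : u = 1 := by
  obtain ⟨⟨x, hx⟩, hx1⟩ := (Subgroup.ne_bot_iff_exists_ne_one).1 hP.W₁_ne
  refine TypeP.fpf_U hP hx (fun e => hx1 (Subtype.ext e)) hu
    (H41.commute_of_coprime_of_isNilpotent hN (hW hx) huN ?_)
  exact ((TypeP.coprime_U_W₁ hP).symm.coprime_dvd_left (W₁.orderOf_dvd_natCard hx)).coprime_dvd_right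
    (U.orderOf_dvd_natCard hu)

/-- `L ⊇ N(U)` is not a conjugate of `S`. -/
theorem not_le_conj_self (hP : Cfsg.IsTypePWith S W₁ U W₂)
    (hN : ¬ normalizer (U : Set G) ≤ S) (g : G)
    (hL : normalizer (U : Set G) ≤ S.map (MulAut.conj g).toMonoidHom) : False := by
  set H := Cfsg.fittingHallOf S
  have hU' : U.map (MulAut.conj g⁻¹).toMonoidHom ≤ S := by
    refine ((map_mono (le_normalizer.trans hL)).trans_eq ?_)
    rw [Coprime.map_conj_map_conj, inv_mul_cancel, Coprime.map_conj_one]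
  have hU'd : U.map (MulAut.conj g⁻¹).toMonoidHom ≤ ⁅S, S⁆ := fun u hu =>
    BG16.mem_of_coprime_relIndex (TypeP.derived_le S) (TypeP.le_normalizer_derived S) (hU' hu) (by
      have h1 : orderOf u ∣ Nat.card U := by
        rw [← Coprime.card_map_conj g⁻¹ U]
        exact (U.map (MulAut.conj g⁻¹).toMonoidHom).orderOf_dvd_natCard hu
      have h2 : (⁅S, S⁆).relIndex S = Nat.card W₁ := by
        refine Nat.eq_of_mul_eq_mul_left (Nat.card_pos (α := ↥⁅S, S⁆)) ?_
        rw [← TypeP.card_eq hP, ← relIndex_bot_left, ← relIndex_bot_left (H := S),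
          relIndex_mul_relIndex _ _ _ bot_le (TypeP.derived_le S)]
      exact h2 ▸ (TypeP.coprime_U_W₁ hP).coprime_dvd_left h1)
  have hUH : U ≤ normalizer (H : Set G) := (TypeP.U_le hP).trans (TypeP.le_normalizer_core S)
  have hsup : ⁅S, S⁆ ≤ H ⊔ U := fun m hm => by
    obtain ⟨h, hh, u, hu, rfl⟩ := hP.U_compl.2.2.2 m hm
    exact mul_mem_sup hh hu
  obtain ⟨h, hh, he⟩ := Coprime.exists_conj_of_le_sup hUH (hU'd.trans hsup)
    (Coprime.card_map_conj g⁻¹ U) (TypeP.coprime_core_U hP).symm (Or.inr (TypeP.core_solvable S))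
  have hgh : U.map (MulAut.conj (g * h)).toMonoidHom = U := by
    rw [← Coprime.map_conj_map_conj, ← he, Coprime.map_conj_map_conj, mul_inv_cancel,
      Coprime.map_conj_one]
  refine hN fun x hx => ?_
  have hn := Coprime.mem_normalizer_of_map_conj hgh
  have h1 := hL (mul_mem (mul_mem hn hx) (inv_mem hn))
  rw [Coprime.mem_map_conj] at h1
  have hhS : h ∈ S := TypeP.core_le S hh
  have h2 := S.mul_mem (S.mul_mem (S.inv_mem hhS) h1) hhS
  simpa [mul_assoc] using h2

/-- `L ⊇ N(U)` is not a conjugate of `T`. -/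
theorem not_le_conj_other (hP : Cfsg.IsTypePWith S W₁ U W₂) (hT : Cfsg.IsTypePWith T W₂ V W₁)
    (hU : U ≠ ⊥) (hq : (Nat.card W₁).Prime) (g : G)
    (hL : normalizer (U : Set G) ≤ T.map (MulAut.conj g).toMonoidHom) : False := by
  haveI := Fact.mk hq
  set Q := (Cfsg.fittingHallOf T).map (MulAut.conj g).toMonoidHom with hQ
  set L := T.map (MulAut.conj g).toMonoidHom with hLdef
  have hQL : Q ≤ L := map_mono (TypeP.core_le T)
  have hLQ : L ≤ normalizer (Q : Set G) :=
    (map_mono (TypeP.le_normalizer_core T)).trans (le_normalizer_map _)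
  have hW1L : W₁ ≤ L := hP.U_normal.trans hL
  have hW : W₁ ≤ Q := fun w hw => BG16.mem_of_coprime_relIndex hQL hLQ (hW1L hw) (by
    have h1 : orderOf w ∣ Nat.card (Cfsg.fittingHallOf T) :=
      (W₁.orderOf_dvd_natCard hw).trans (card_dvd_of_le (TypeP.W₂_le_core hT))
    rw [hQ, hLdef, relIndex_map_map_of_injective _ _ (MulAut.conj g).injective]
    exact (BG16.fittingHallOf_coprime T).coprime_dvd_left h1)
  have hQn : Group.IsNilpotent Q := by
    haveI := TypeP.core_nilpotent T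
    exact Group.nilpotent_of_mulEquiv
      ((Cfsg.fittingHallOf T).equivMapOfInjective (MulAut.conj g).toMonoidHom (MulAut.conj g).injective)
  have hUL : U ≤ L := le_normalizer.trans hL
  refine hU (eq_bot_iff.mpr ?_)
  rw [← commutator_U_W₁ hP]
  refine (le_inf (Coprime.commutator_le_left_of_normalizer hP.U_normal) ?_).trans
    (show U ⊓ Q ≤ ⊥ from fun u hu => mem_bot.mpr (eq_one_of_nilpotent hP hQn hW hu.1 hu.2))
  exact (commutator_mono le_rfl hW).trans ((commutator_comm U Q).le.trans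
    (Coprime.commutator_le_left_of_normalizer (hUL.trans hLQ)))

/-- Peterfalvi 13.17: the structure of `L ⊇ N(U)` once `L` is a Frobenius group with kernel `L_F`. -/
theorem frobenius_over_normalizer (hodd : Odd (Nat.card G)) (hP : Cfsg.IsTypePWith S W₁ U W₂)
    (hq : (Nat.card W₁).Prime) (hU : U ≠ ⊥) (hp : (Nat.card W₂).Prime) (hsol : Group.IsSolvable L)
    (hNU : normalizer (U : Set G) ≤ L) (hL1 : Cfsg.fittingHallOf L ≠ ⊥)
    (hfrob : ∀ x ∈ Cfsg.fittingHallOf L, x ≠ 1 →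
      L ⊓ centralizer ({x} : Set G) ≤ Cfsg.fittingHallOf L)
    (hel : Cfsg.IsElementaryAbelian (Nat.card W₁) (Cfsg.fittingHallOf T))
    (hT : Cfsg.IsTypePWith T W₂ V W₁)
    (hN : normalizer (W₁ : Set G) = Cfsg.fittingHallOf T ⊔ W₂) :
    U ≤ Cfsg.fittingHallOf L ∧
      ((Cfsg.fittingHallOf L ⊓ W₁ = ⊥ ∧ Cfsg.fittingHallOf L ⊔ W₁ = L) ∨
        ∃ y ∈ Cfsg.fittingHallOf T,
          Cfsg.fittingHallOf L ⊓ (W₁ ⊔ W₂.map (MulAut.conj y).toMonoidHom) = ⊥ ∧
          Cfsg.fittingHallOf L ⊔ (W₁ ⊔ W₂.map (MulAut.conj y).toMonoidHom) = L) := by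
  set q := Nat.card W₁ with hqdef
  haveI := Fact.mk hq
  haveI : Group.IsSolvable L := hsol
  set H := Cfsg.fittingHallOf L with hH
  set Q := Cfsg.fittingHallOf T with hQdef
  have hHL : H ≤ L := TypeP.core_le L
  have hLH : L ≤ normalizer (H : Set G) := TypeP.le_normalizer_core L
  have hHn : Group.IsNilpotent H := TypeP.core_nilpotent L
  have hW1L : W₁ ≤ L := hP.U_normal.trans hNU
  have hUL : U ≤ L := le_normalizer.trans hNU
  -- `W₁` avoids `H`
  have hqH : ¬ q ∣ Nat.card H := by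
    intro h
    have hWH : W₁ ≤ H := fun w hw => BG16.mem_of_coprime_relIndex hHL hLH (hW1L hw)
      ((BG16.fittingHallOf_coprime L).coprime_dvd_left ((W₁.orderOf_dvd_natCard hw).trans h))
    refine hU (eq_bot_iff.mpr ?_)
    rw [← commutator_U_W₁ hP]
    refine (le_inf (Coprime.commutator_le_left_of_normalizer hP.U_normal) ?_).trans
      (show U ⊓ H ≤ ⊥ from fun u hu => mem_bot.mpr (eq_one_of_nilpotent hP hHn hWH hu.1 hu.2))
    exact (commutator_mono le_rfl hWH).trans ((commutator_comm U H).le.trans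
      (Coprime.commutator_le_left_of_normalizer (hUL.trans hLH)))
  -- a complement containing `W₁`
  obtain ⟨E, hE, -, hWE⟩ := Coprime.exists_invariant_hall_ge (A := (⊥ : Subgroup G)) (K := L)
    bot_le (by rw [card_bot]; exact Nat.coprime_one_left _) hsol
    (U := W₁) hW1L bot_le (π := {r : ℕ | ¬ r ∣ Nat.card H}) (fun r hr hd => by
      rw [← hqdef, Nat.prime_dvd_prime_iff_eq hr hq] at hd
      exact hd ▸ hqH)
  have hEH : E ≤ normalizer (H : Set G) := hE.1.trans hLH
  have hcop : (Nat.card E).Coprime (Nat.card H) :=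
    Nat.coprime_of_dvd fun r hr h1 h2 => hE.2.1 r hr h1 h2
  have hdis : H ⊓ E = ⊥ := Coprime.inf_eq_bot hcop.symm
  have hsup : H ⊔ E = L := by
    refine eq_of_le_of_card_ge (sup_le hHL hE.1) ?_
    rw [Coprime.card_sup hEH hdis]
    have h1 : Nat.card H * H.relIndex L = Nat.card L := by
      rw [← relIndex_bot_left, ← relIndex_bot_left (H := L), relIndex_mul_relIndex _ _ _ bot_le hHL]
    have h2 : Nat.card E * E.relIndex L = Nat.card L := by
      rw [← relIndex_bot_left, ← relIndex_bot_left (H := L), relIndex_mul_relIndex _ _ _ bot_le hE.1]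
    have h3 : H.relIndex L ∣ Nat.card E := by
      refine (Nat.coprime_of_dvd fun r hr ha hb => ?_ :
        (H.relIndex L).Coprime (E.relIndex L)).dvd_of_dvd_mul_right
        (h2.symm ▸ h1 ▸ dvd_mul_left _ _)
      by_cases hrH : r ∣ Nat.card H
      · exact hr.not_dvd_one ((BG16.fittingHallOf_coprime L) ▸ Nat.dvd_gcd hrH ha)
      · exact hE.2.2 r hr hrH hb
    rw [← h1]
    exact Nat.mul_le_mul_left _ (Nat.le_of_dvd Nat.card_pos h3)
  have hfpf : ∀ e ∈ E, e ≠ 1 → H ⊓ centralizer ({e} : Set G) = ⊥ := by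
    intro e he he1
    refine eq_bot_iff.mpr fun x hx => mem_bot.mpr ?_
    by_contra hx1
    have h1 : e ∈ H ⊓ E := ⟨hfrob x hx.1 hx1 ⟨hE.1 he,
      mem_centralizer_singleton_iff.mpr (mem_centralizer_singleton_iff.mp hx.2).symm⟩, he⟩
    rw [hdis] at h1
    exact he1 (mem_bot.mp h1)
  have hEW : E ≤ normalizer (W₁ : Set G) := normal_of_prime_fpf hodd hHn hL1
    (Coprime.isSolvable_of_le hE.1 hsol) hEH hcop hfpf hWE hqdef.symm
  -- `U ≤ H`
  have hUH : U ≤ H := by
    have hLW : L ≤ normalizer ((H ⊔ W₁ : Subgroup G) : Set G) := by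
      rw [← hsup]
      refine sup_le (le_sup_left.trans le_normalizer) fun e he => ?_
      refine Coprime.mem_normalizer_of_map_conj ?_
      rw [Subgroup.map_sup, Coprime.map_conj_eq (hEH he), Coprime.map_conj_eq (hEW he)]
    have h1 : ⁅U, W₁⁆ ≤ H ⊔ W₁ := (commutator_mono le_rfl le_sup_right).trans
      ((commutator_comm U (H ⊔ W₁)).le.trans
        (Coprime.commutator_le_left_of_normalizer (hUL.trans hLW)))
    rw [commutator_U_W₁ hP] at h1
    intro u hu
    refine BG16.mem_of_coprime_relIndex le_sup_left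
      (sup_le le_normalizer (hW1L.trans hLH)) (h1 hu) ?_
    have h2 : H.relIndex (H ⊔ W₁) ∣ q := by
      have h := Coprime.card_sup (hW1L.trans hLH)
        (Coprime.inf_eq_bot ((hq.coprime_iff_not_dvd.mpr hqH).symm : (Nat.card H).Coprime (Nat.card W₁)))
      rw [← relIndex_bot_left (H := H ⊔ W₁),
        ← relIndex_mul_relIndex ⊥ H (H ⊔ W₁) bot_le le_sup_left, relIndex_bot_left] at h
      exact (Nat.eq_of_mul_eq_mul_left Nat.card_pos h).dvd
    exact ((TypeP.coprime_U_W₁ hP).coprime_dvd_left (U.orderOf_dvd_natCard hu)).coprime_dvd_right h2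
  refine ⟨hUH, ?_⟩
  -- `E ≤ Q W₂` meets `Q` in `W₁`
  have hEQ : E ≤ Q ⊔ W₂ := hN ▸ hEW
  have hWQ : W₁ ≤ Q := TypeP.W₂_le_core hT
  have hW2Q : W₂ ≤ normalizer (Q : Set G) := (TypeP.W₁_le hT).trans (TypeP.le_normalizer_core T)
  have hcQ : (Nat.card W₂).Coprime (Nat.card Q) := (TypeP.coprime_core_W₁ hT).symm
  have hEQ1 : E ⊓ Q = W₁ := by
    refine le_antisymm ?_ (le_inf hWE hWQ)
    have hDq : IsPGroup q ↥(E ⊓ Q) := fun y =>
      ⟨1, Subtype.ext (by simpa using hel.2 (y : G) y.2.2)⟩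
    have hDc := isCyclic_of_fpf hodd hL1 hEH hcop hfpf inf_le_left hDq
    intro y hy
    by_cases hy1 : y = 1
    · exact hy1 ▸ one_mem _
    have e : zpowers y = W₁ := H41.eq_of_card_eq_of_le_cyclic hDc (zpowers_le.mpr hy) (le_inf hWE hWQ)
      (by rw [Nat.card_zpowers, orderOf_eq_prime (hel.2 y hy.2) hy1])
    exact e ▸ mem_zpowers y
  have hcard : Nat.card E ∣ q * Nat.card W₂ := by
    have h1 : Nat.card ↥(E ⊓ Q) * Q.relIndex E = Nat.card E := by
      rw [← inf_relIndex_right Q E, inf_comm Q E, ← relIndex_bot_left, ← relIndex_bot_left (H := E),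
        relIndex_mul_relIndex _ _ _ bot_le inf_le_left]
    rw [← h1, hEQ1]
    refine mul_dvd_mul_left _ ?_
    have hQn : Q.relIndex (Q ⊔ W₂) = Nat.card W₂ := by
      have h := Coprime.card_sup hW2Q (Coprime.inf_eq_bot hcQ.symm)
      rw [← relIndex_bot_left (H := Q ⊔ W₂),
        ← relIndex_mul_relIndex ⊥ Q (Q ⊔ W₂) bot_le le_sup_left, relIndex_bot_left] at h
      exact Nat.eq_of_mul_eq_mul_left Nat.card_pos h
    rw [← hQn]
    haveI : (Q.subgroupOf (Q ⊔ W₂)).Normal :=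
      (normal_subgroupOf_iff_le_normalizer le_sup_left).2 (sup_le le_normalizer hW2Q)
    have h2 := relIndex_dvd_index_of_normal (Q.subgroupOf (Q ⊔ W₂)) (E.subgroupOf (Q ⊔ W₂))
    rwa [relIndex_subgroupOf hEQ] at h2
  by_cases hE1 : E = W₁
  · exact Or.inl ⟨hE1 ▸ hdis, hE1 ▸ hsup⟩
  haveI := Fact.mk hp
  have hpE : Nat.card W₂ ∣ Nat.card E := by
    by_contra h
    refine hE1 (eq_of_le_of_card_ge hWE (Nat.le_of_dvd Nat.card_pos ?_)).symm
    exact ((hp.coprime_iff_not_dvd.mpr h).symm.dvd_of_dvd_mul_right hcard)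
  obtain ⟨P, hPc⟩ := Sylow.exists_subgroup_card_pow_prime (Nat.card W₂) (G := E) (n := 1)
    (by rwa [pow_one])
  rw [pow_one] at hPc
  have hPc' : Nat.card (P.map E.subtype) = Nat.card W₂ := by
    rw [card_map_of_injective E.subtype_injective, hPc]
  obtain ⟨y, hy, he⟩ := Coprime.exists_conj_of_le_sup hW2Q ((map_subtype_le P).trans hEQ) hPc'
    hcQ (Or.inr (TypeP.core_solvable T))
  refine Or.inr ⟨y, hy, ?_⟩
  have hle : W₁ ⊔ W₂.map (MulAut.conj y).toMonoidHom ≤ E := sup_le hWE (he ▸ map_subtype_le P)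
  have hEeq : W₁ ⊔ W₂.map (MulAut.conj y).toMonoidHom = E := by
    refine eq_of_le_of_card_ge hle (Nat.le_of_dvd Nat.card_pos (hcard.trans ?_))
    refine Nat.Coprime.mul_dvd_of_dvd_of_dvd ?_ (card_dvd_of_le le_sup_left)
      ((Coprime.card_map_conj y W₂).symm.dvd.trans (card_dvd_of_le le_sup_right))
    exact (hcQ.coprime_dvd_right (card_dvd_of_le hWQ)).symm
  exact ⟨hEeq ▸ hdis, hEeq ▸ hsup⟩

end Cfsg.Agent.OddOrder.PF13
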